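import Groth.Agent.QcqsColim.Topos
import Groth.Agent.SiteBase.Rpush
import Groth.Agent.SiteBase.HKRep
import Groth.Prelude.Def_CohTop
import Groth.Prelude.Def_Coh
import Mathlib.AlgebraicGeometry.Morphisms.QuasiSeparated

/-!
# Higher direct images and colimits
-/

set_option autoImplicit false
set_option backward.isDefEq.respectTransparency false

universe u

open CategoryTheory CategoryTheory.Limits Opposite TopologicalSpace Groth.Agent.SiteBase

namespace Groth.Agent.QcqsColim

variable {X Y : TopCat.{u}} (f : X ⟶ Y) {ι : Type u} [SmallCategory ι] (F : ι ⥤ CohTop.Ab X) (p : ℕ)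

/-- Higher direct images commute with a colimit which commutes with cohomology on the inverse images of the
members of a basis. -/
theorem preservesColimit_Rpush_of_basis
    (h : Opens.IsBasis {V : Opens Y | PreservesColimit F
        ((Sheaf.cohomologyPresheafFunctor (Opens.grothendieckTopology X) p).flip.obj
          (op ((Opens.map f).obj V)))}) :
    PreservesColimit F (CohTop.Rpush f p) := by
  let K := Opens.grothendieckTopology Y
  let P : CohTop.Ab X ⥤ (Opens Y)ᵒᵖ ⥤ AddCommGrpCat.{u} :=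
    Sheaf.cohomologyPresheafFunctor.{u} (Opens.grothendieckTopology X) p ⋙ precomp (Opens.map f)
  suffices PreservesColimit F (P ⋙ presheafToSheaf K AddCommGrpCat.{u}) from
    preservesColimit_of_natIso F (rpushIso (Opens.grothendieckTopology X) K (Opens.map f) p).symm
  let c := colimit.cocone F
  let hc : IsColimit c := colimit.isColimit F
  let φ : colimit (F ⋙ P) ⟶ P.obj c.pt := colimit.desc _ (P.mapCocone c)
  -- on the members of the basis the comparison map is bijective
  have hiso : ∀ V ∈ {V : Opens Y | PreservesColimit F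
      ((Sheaf.cohomologyPresheafFunctor (Opens.grothendieckTopology X) p).flip.obj
        (op ((Opens.map f).obj V)))}, IsIso (φ.app (op V)) := by
    intro V hV
    let E := (evaluation (Opens Y)ᵒᵖ AddCommGrpCat.{u}).obj (op V)
    haveI : PreservesColimit F (P ⋙ E) := hV
    let e := IsColimit.coconePointUniqueUpToIso (isColimitOfPreserves E (colimit.isColimit (F ⋙ P)))
      (isColimitOfPreserves (P ⋙ E) hc)
    have he : φ.app (op V) = e.hom := by
      refine (isColimitOfPreserves E (colimit.isColimit (F ⋙ P))).hom_ext fun j => ?_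
      rw [IsColimit.comp_coconePointUniqueUpToIso_hom]
      exact (NatTrans.comp_app (colimit.ι (F ⋙ P) j) φ (op V)).symm.trans
        (congrArg (fun q => q.app (op V)) (colimit.ι_desc (P.mapCocone c) j))
    rw [he]
    infer_instance
  haveI : Presheaf.IsLocallyInjective K φ := ⟨fun {V} x y hxy z hz => by
    obtain ⟨W, hW, hzW, hWV⟩ := Opens.isBasis_iff_nbhd.1 h hz
    refine ⟨W, homOfLE hWV, ?_, hzW⟩
    haveI := hiso W hW
    refine (ConcreteCategory.bijective_of_isIso (φ.app (op W))).1 ?_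
    rw [NatTrans.naturality_apply, NatTrans.naturality_apply, hxy]⟩
  haveI : Presheaf.IsLocallySurjective K φ := ⟨fun {V} s z hz => by
    obtain ⟨W, hW, hzW, hWV⟩ := Opens.isBasis_iff_nbhd.1 h hz
    haveI := hiso W hW
    obtain ⟨t, ht⟩ := (ConcreteCategory.bijective_of_isIso (φ.app (op W))).2 ((P.obj c.pt).map (homOfLE hWV).op s)
    exact ⟨W, homOfLE hWV, ⟨t, ht⟩, hzW⟩⟩
  haveI : IsIso ((presheafToSheaf K AddCommGrpCat.{u}).map φ) :=
    (K.W_iff_isIso_map_of_adjunction (sheafificationAdjunction K AddCommGrpCat.{u}) φ).1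
      (K.W_of_isLocallyBijective φ)
  refine preservesColimit_of_preserves_colimit_cocone hc
    (IsColimit.ofIsoColimit (isColimitOfPreserves (presheafToSheaf K AddCommGrpCat.{u}) (colimit.isColimit (F ⋙ P)))
      (Cocone.ext (asIso ((presheafToSheaf K AddCommGrpCat.{u}).map φ)) fun j => ?_))
  change (presheafToSheaf K AddCommGrpCat.{u}).map (colimit.ι (F ⋙ P) j) ≫ _ = _
  rw [asIso_hom, ← Functor.map_comp, colimit.ι_desc]
  rfl

/-! ### Compact quasi-separated opens of a locally quasi-separated space -/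

section Local

open Groth.Agent.ToposFinLib ToposFin

variable {T : TopCat.{u}}

/-- The compact quasi-separated opens. -/
def GoodOpen (U : Opens T) : Prop := IsCompact (U : Set T) ∧ IsQuasiSeparated (U : Set T)

/-- The sheaves attached to compact quasi-separated opens. -/
def GoodEps (K : Sh (Opens.grothendieckTopology T)) : Prop :=
  ∃ U : Opens T, GoodOpen U ∧ K = eps (Opens.grothendieckTopology T) U

theorem GoodOpen.inf {U V W : Opens T} (hW : GoodOpen W) (hU : GoodOpen U) (hV : GoodOpen V) (hUW : U ≤ W)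
    (hVW : V ≤ W) : GoodOpen (U ⊓ V) :=
  ⟨hW.2 U V hUW U.isOpen hU.1 hVW V.isOpen hV.1, hU.2.of_subset Set.inter_subset_left⟩

/-- A morphism between the sheaves attached to opens gives an inclusion. -/
theorem le_of_epsHom {U V : Opens T}
    (a : eps (Opens.grothendieckTopology T) V ⟶ eps (Opens.grothendieckTopology T) U) : V ≤ U := by
  intro x hx
  obtain ⟨S, hS, hS'⟩ := eps_imageSieve (a.hom.app (op V) (epsGen _ V))
  obtain ⟨W, b, hb, hxW⟩ := hS x hx
  obtain ⟨g, -⟩ := hS' b hb
  exact g.le hxW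

theorem gen_goodEps (hT : Opens.IsBasis {U : Opens T | GoodOpen U}) :
    Gen (J := Opens.grothendieckTopology T) GoodEps := by
  intro F
  refine ⟨Σ U : {U : Opens T // GoodOpen U}, F.obj.obj (op U.1), fun p => eps _ p.1.1,
    fun p => epsDesc p.2, fun p => ⟨p.1.1, p.1.2, rfl⟩, fun V y x hx => ?_⟩
  obtain ⟨W, hW, hxW, hWV⟩ := Opens.isBasis_iff_nbhd.1 hT hx
  exact ⟨W, homOfLE hWV, ⟨⟨⟨W, hW⟩, F.obj.map (homOfLE hWV).op y⟩, epsGen _ W, epsDesc_gen _⟩, hxW⟩

/-- The fibre product of opens over an open. -/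
theorem isPullback_eps {U V W : Opens T}
    (a : eps (Opens.grothendieckTopology T) U ⟶ eps (Opens.grothendieckTopology T) W)
    (b : eps (Opens.grothendieckTopology T) V ⟶ eps (Opens.grothendieckTopology T) W) :
    IsPullback (epsMap (homOfLE inf_le_left) : eps _ (U ⊓ V) ⟶ _) (epsMap (homOfLE inf_le_right)) a b := by
  have h := ((isPullback_inf U V).map yoneda).map (presheafToSheaf (Opens.grothendieckTopology T) (Type u))
  exact IsPullback.of_isLimit' ⟨epsHom_subsingleton _ _ _⟩ (PullbackCone.IsLimit.mk _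
    (fun s => h.lift s.fst s.snd (epsHom_subsingleton _ _ _)) (fun _ => h.lift_fst _ _ _)
    (fun _ => h.lift_snd _ _ _) (fun _ _ _ _ => epsHom_subsingleton _ _ _))

theorem isCoherent_goodEps (hT : Opens.IsBasis {U : Opens T | GoodOpen U}) {K : Sh (Opens.grothendieckTopology T)}
    (hK : GoodEps K) : IsCoherent K := by
  obtain ⟨U, hU, rfl⟩ := hK
  refine ⟨(isQC_eps_iff U).1 (isQCSite_of_isCompact hU.1), ?_⟩
  refine isQS_of_cov (gen_goodEps hT) (cov_self.{u} (eps _ U)) ?_
  rintro A B i j a b ⟨V, hV, rfl⟩ ⟨W, hW, rfl⟩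
  exact isQC_of_iso (isPullback_eps (a ≫ 𝟙 _) (b ≫ 𝟙 _)).isoPullback
    ((isQC_eps_iff _).1 (isQCSite_of_isCompact
      (hU.inf hV hW (le_of_epsHom a) (le_of_epsHom b)).1))

theorem tame_goodEps (hT : Opens.IsBasis {U : Opens T | GoodOpen U}) {K : Sh (Opens.grothendieckTopology T)}
    (hK : GoodEps K) : Tame K := by
  refine ⟨isCoherent_goodEps hT hK, fun G g hG => ?_⟩
  obtain ⟨U, hU, rfl⟩ := hK
  obtain ⟨κ, F, π, hF, hπ⟩ := gen_goodEps hT G
  refine isQSHom_of_qs_products ((gen_goodEps hT).mono fun A hA => (isCoherent_goodEps hT hA).1) g hπ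
    (fun k => (isCoherent_goodEps hT (hF k)).1) (fun i j => ?_) hG
  obtain ⟨V, hV, hVe⟩ := hF i
  obtain ⟨W, hW, hWe⟩ := hF j
  have hVU : V ≤ U := le_of_epsHom ((eqToHom hVe.symm) ≫ π i ≫ g)
  have hWU : W ≤ U := le_of_epsHom ((eqToHom hWe.symm) ≫ π j ≫ g)
  let e : pullback (π i ≫ g) (π j ≫ g) ≅ pullback (eqToHom hVe.symm ≫ π i ≫ g) (eqToHom hWe.symm ≫ π j ≫ g) :=
    asIso (pullback.map (π i ≫ g) (π j ≫ g) (eqToHom hVe.symm ≫ π i ≫ g) (eqToHom hWe.symm ≫ π j ≫ g)
      (eqToHom hVe) (eqToHom hWe) (𝟙 _) (by simp) (by simp))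
  exact isQS_of_isQSHom (isQSHom_of_mono (e ≪≫ (isPullback_eps _ _).isoPullback.symm).hom)
    (isCoherent_goodEps hT ⟨V ⊓ W, hU.inf hV hW hVU hWU, rfl⟩).2

end Local

/-- Cohomology of a compact quasi-separated open commutes with filtered colimits. -/
theorem preservesColimitsOfShape_cohomologyPresheaf {T : TopCat.{u}}
    (hT : Opens.IsBasis {U : Opens T | GoodOpen U}) {U : Opens T} (hU : GoodOpen U)
    (Λ : Type u) [SmallCategory Λ] [IsFiltered Λ] (q : ℕ) :
    PreservesColimitsOfShape Λ
      ((Sheaf.cohomologyPresheafFunctor.{u} (Opens.grothendieckTopology T) q).flip.obj (op U)) := by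
  haveI : PreservesColimitsOfShape Λ
      ((Abelian.extFunctor.{u} q).obj (Opposite.op (CohCx.freeSheaf (Opens.grothendieckTopology T) U))) :=
    ⟨fun {F} => ((ToposFinLib.comm_all (gen_goodEps hT) (fun _ hA => isCoherent_goodEps hT hA)
      (tame_goodEps hT ⟨U, hU, rfl⟩) q F).of_iso
      ((freeSheafifyIso (Opens.grothendieckTopology T)).app (yoneda.obj U))).preservesColimit⟩
  exact preservesColimitsOfShape_of_natIso (NatIso.ofComponents (fun F => Iso.refl _) (fun {F G} g => by
    ext x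
    rfl) : (Abelian.extFunctor.{u} q).obj (Opposite.op (CohCx.freeSheaf (Opens.grothendieckTopology T) U)) ≅
      (Sheaf.cohomologyPresheafFunctor.{u} (Opens.grothendieckTopology T) q).flip.obj (op U))

open AlgebraicGeometry in
/-- Higher direct images along a quasi-compact quasi-separated morphism commute with filtered colimits. -/
theorem preservesColimitsOfShape_RpushAb {X S : Scheme.{u}} (f : X ⟶ S) [QuasiCompact f] [QuasiSeparated f]
    (q : ℕ) (Λ : Type u) [SmallCategory Λ] [IsFiltered Λ] : PreservesColimitsOfShape Λ (Coh.RpushAb f q) := by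
  refine ⟨fun {F} => preservesColimit_Rpush_of_basis f.base F q ?_⟩
  refine Opens.isBasis_iff_nbhd.2 fun {U x} hx => ?_
  obtain ⟨V, hV, hxV, hVU⟩ := exists_isAffineOpen_mem_and_subset (X := S) (x := x) hx
  refine ⟨V, ?_, hxV, hVU⟩
  have hT : Opens.IsBasis {U : Opens (TopCat.of X) | GoodOpen U} :=
    Opens.isBasis_iff_nbhd.2 fun {U x} hx => by
      obtain ⟨W, hW, hxW, hWU⟩ := exists_isAffineOpen_mem_and_subset (X := X) (x := x) hx
      exact ⟨W, ⟨hW.isCompact, hW.isQuasiSeparated⟩, hxW, hWU⟩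
  haveI : IsAffine (V : Scheme.{u}) := hV
  haveI : QuasiSeparatedSpace (f ⁻¹ᵁ V : Scheme.{u}) := quasiSeparatedSpace_of_quasiSeparated (f ∣_ V)
  have hgood : GoodOpen (T := TopCat.of X) ((Opens.map f.base).obj V) :=
    ⟨f.isCompact_preimage hV.isCompact,
      (isQuasiSeparated_iff_quasiSeparatedSpace _ (f ⁻¹ᵁ V).isOpen).2 ‹QuasiSeparatedSpace (f ⁻¹ᵁ V : Scheme.{u})›⟩
  haveI := preservesColimitsOfShape_cohomologyPresheaf hT hgood Λ q
  exact PreservesColimitsOfShape.preservesColimit

end Groth.Agent.QcqsColim
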