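import Groth.Agent.QcqsColim.Topos
import Groth.Agent.QCoh.ExtendFT
import Groth.Agent.KFlatLib.Scheme.Exact
import Groth.Prelude.Def_Coh

/-!
# Cohomology classes of a quasi-coherent module come from submodules of finite type
-/

set_option autoImplicit false
set_option backward.isDefEq.respectTransparency false

universe u

open CategoryTheory CategoryTheory.Limits AlgebraicGeometry TopologicalSpace Opposite Abelian
open Groth.Agent.ToposFinLib Groth.Agent.QCoh Groth.Agent.SiteBase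

namespace Groth.Agent.QcqsColim

section Topology

variable {T : TopCat.{u}} {Λ : Type u} [SmallCategory Λ] [IsFiltered Λ]

/-- Cohomology classes of a filtered colimit of abelian sheaves come from a stage. -/
theorem exists_stage [CompactSpace T] [PrespectralSpace T] [QuasiSeparatedSpace T]
    (D : Λ ⥤ Sheaf (Opens.grothendieckTopology T) AddCommGrpCat.{u}) (n : ℕ)
    (x : Sheaf.H (colimit D) n) :
    ∃ (i : Λ) (y : Sheaf.H (D.obj i) n), y.comp (Ext.mk₀ (colimit.ι D i)) (add_zero n) = x := by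
  have h1 : ToposFin.IsCoherent (⊤_ (ToposFin.Sh (Opens.grothendieckTopology T))) := by
    have hU : ToposFin.IsCoherent (ToposFin.eps (Opens.grothendieckTopology T) (⊤ : Opens T)) :=
      isCoherent_eps_of_isCompact isCompact_univ
    have ht : IsTerminal (ToposFin.eps (Opens.grothendieckTopology T) (⊤ : Opens T)) :=
      isTerminalEpsTop
    exact isCoherent_of_iso (ht.uniqueUpToIso terminalIsTerminal) hU
  exact ((comm_of_algebraic isAlgebraic h1 n D).of_iso nonempty_freeSh_terminal_iso_const.some).surj x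

end Topology

variable {X : Scheme.{u}} {F : X.Modules}

theorem rs_mem_sup (N₁ N₂ : SubMod F) {O O' : X.Opens} (h : O' ≤ O) {s : Γ(F, O)}
    (hs : s ∈ N₁.mem O ⊔ N₂.mem O) : rs F h s ∈ N₁.mem O' ⊔ N₂.mem O' := by
  obtain ⟨a, ha, b, hb, rfl⟩ := Submodule.mem_sup.1 hs
  rw [rs, map_add]
  exact Submodule.add_mem_sup (N₁.map_mem h ha) (N₂.map_mem h hb)

/-- The sum of two submodules. -/
noncomputable def supSub (N₁ N₂ : SubMod F) : SubMod F where
  mem O :=
    { carrier := {s | ∀ x ∈ O, ∃ (P : X.Opens) (hP : P ≤ O), x ∈ P ∧ rs F hP s ∈ N₁.mem P ⊔ N₂.mem P}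
      zero_mem' := fun x hx => ⟨O, le_rfl, hx, by rw [rs, map_zero]; exact zero_mem _⟩
      add_mem' := fun {a b} ha hb x hx => by
        obtain ⟨P, hP, hxP, hPs⟩ := ha x hx
        obtain ⟨Q, hQ, hxQ, hQs⟩ := hb x hx
        refine ⟨P ⊓ Q, inf_le_left.trans hP, ⟨hxP, hxQ⟩, ?_⟩
        rw [rs, map_add]
        refine add_mem ?_ ?_
        · have := rs_mem_sup N₁ N₂ (inf_le_left : P ⊓ Q ≤ P) hPs
          rwa [rs_rs] at this
        · have := rs_mem_sup N₁ N₂ (inf_le_right : P ⊓ Q ≤ Q) hQs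
          rwa [rs_rs] at this
      smul_mem' := fun a s hs x hx => by
        obtain ⟨P, hP, hxP, hPs⟩ := hs x hx
        exact ⟨P, hP, hxP, by rw [rs_smul]; exact Submodule.smul_mem _ _ hPs⟩ }
  map_mem {O O'} i {s} hs x hx := by
    obtain ⟨P, hP, hxP, hPs⟩ := hs x (i hx)
    refine ⟨P ⊓ O', inf_le_right, ⟨hxP, hx⟩, ?_⟩
    have := rs_mem_sup N₁ N₂ (inf_le_left : P ⊓ O' ≤ P) hPs
    rw [rs_rs] at this
    change rs F _ (rs F i s) ∈ _
    rwa [rs_rs]
  of_locally O s hs x hx := by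
    obtain ⟨P, i, hxP, hP⟩ := hs x hx
    obtain ⟨Q, hQP, hxQ, hQ⟩ := hP x hxP
    change rs F _ (rs F i s) ∈ _ at hQ
    rw [rs_rs] at hQ
    exact ⟨Q, hQP.trans i, hxQ, hQ⟩

theorem mem_supSub_left (N₁ N₂ : SubMod F) (O : X.Opens) {s : Γ(F, O)} (hs : s ∈ N₁.mem O) :
    s ∈ (supSub N₁ N₂).mem O :=
  fun _ hx => ⟨O, le_rfl, hx, Submodule.mem_sup_left (N₁.map_mem le_rfl hs)⟩

theorem mem_supSub_right (N₁ N₂ : SubMod F) (O : X.Opens) {s : Γ(F, O)} (hs : s ∈ N₂.mem O) :
    s ∈ (supSub N₁ N₂).mem O :=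
  fun _ hx => ⟨O, le_rfl, hx, Submodule.mem_sup_right (N₂.map_mem le_rfl hs)⟩

theorem ftOn_supSub {N₁ N₂ : SubMod F} (h₁ : FTOn N₁ ⊤) (h₂ : FTOn N₂ ⊤) : FTOn (supSub N₁ N₂) ⊤ := by
  intro x _
  obtain ⟨V₁, -, hx₁, -, T₁, hT₁⟩ := h₁ x trivial
  obtain ⟨V₂, -, hx₂, -, T₂, hT₂⟩ := h₂ x trivial
  obtain ⟨W, hW, hxW, hWV⟩ := exists_isAffineOpen_mem_and_subset (X := X) (x := x) (U := V₁ ⊓ V₂) ⟨hx₁, hx₂⟩
  have hW₁ : W ≤ V₁ := fun y hy => (hWV hy).1
  have hW₂ : W ≤ V₂ := fun y hy => (hWV hy).2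
  refine ⟨W, hW, hxW, le_top, rs F hW₁ '' T₁ ∪ rs F hW₂ '' T₂, (hT₁.fin.image _).union (hT₂.fin.image _),
    ?_, fun O hO s hs y hy => ?_⟩
  · rintro _ (⟨t, ht, rfl⟩ | ⟨t, ht, rfl⟩)
    · exact mem_supSub_left _ _ _ (N₁.map_mem hW₁ (hT₁.mem t ht))
    · exact mem_supSub_right _ _ _ (N₂.map_mem hW₂ (hT₂.mem t ht))
  · obtain ⟨P, hP, hyP, hPs⟩ := hs y hy
    obtain ⟨a, ha, b, hb, hab⟩ := Submodule.mem_sup.1 hPs
    obtain ⟨Q₁, hQ₁, hy₁, ha'⟩ := (hT₁.restrict hW₁).gen P (hP.trans hO) a ha y hyP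
    obtain ⟨Q₂, hQ₂, hy₂, hb'⟩ := (hT₂.restrict hW₂).gen P (hP.trans hO) b hb y hyP
    refine ⟨Q₁ ⊓ Q₂, (inf_le_left.trans hQ₁).trans hP, ⟨hy₁, hy₂⟩, ?_⟩
    rw [← rs_rs hP (inf_le_left.trans hQ₁), ← hab, rs, map_add]
    refine add_mem (Submodule.span_mono (Set.image_mono Set.subset_union_left) ?_)
      (Submodule.span_mono (Set.image_mono Set.subset_union_right) ?_)
    · have := span_image_rs_le (hQ₁.trans (hP.trans hO)) (inf_le_left : Q₁ ⊓ Q₂ ≤ Q₁) ha'
      rwa [rs_rs] at this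
    · have := span_image_rs_le (hQ₂.trans (hP.trans hO)) (inf_le_right : Q₁ ⊓ Q₂ ≤ Q₂) hb'
      rwa [rs_rs] at this

/-- The empty submodule. -/
noncomputable def botSub (F : X.Modules) : SubMod F where
  mem _ := ⊥
  map_mem {U V} i {s} hs := by
    rw [Submodule.mem_bot] at hs ⊢
    rw [hs, map_zero]
  of_locally U s h := (Submodule.mem_bot _).2 (eq_zero_of_locally U s fun x hx => by
    obtain ⟨V, i, hxV, hV⟩ := h x hx
    exact ⟨V, homOfLE i, hxV, (Submodule.mem_bot _).1 hV⟩)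

/-- Inclusions of submodules. -/
noncomputable def incl {N₁ N₂ : SubMod F} (h : ∀ O, N₁.mem O ≤ N₂.mem O) :
    N₁.toModules ⟶ N₂.toModules :=
  ⟨PresheafOfModules.Submodule.homOfLE (N₁ := N₁.sub) (N₂ := N₂.sub)
    (PresheafOfModules.Submodule.le_iff.2 fun O => h O.unop)⟩

@[simp] theorem incl_ι {N₁ N₂ : SubMod F} (h : ∀ O, N₁.mem O ≤ N₂.mem O) : incl h ≫ N₂.ι = N₁.ι := rfl

/-- The system of submodules of finite type. -/
def FTIndex (F : X.Modules) : Type u := {N : SubMod F // FTOn N ⊤}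

instance : Preorder (FTIndex F) where
  le a b := ∀ O, a.1.mem O ≤ b.1.mem O
  le_refl _ _ := le_rfl
  le_trans _ _ _ h h' O := (h O).trans (h' O)

instance : Nonempty (FTIndex F) :=
  ⟨⟨botSub F, fun x _ => by
    obtain ⟨V, hV, hxV, -⟩ := exists_isAffineOpen_mem_and_subset (X := X) (x := x) (U := ⊤) trivial
    refine ⟨V, hV, hxV, le_top, ∅, Set.finite_empty, fun t ht => ht.elim, fun O hO s hs y hy => ?_⟩
    exact ⟨O, le_rfl, hy, by rw [(Submodule.mem_bot _).1 hs, rs, map_zero]; exact zero_mem _⟩⟩⟩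

instance : IsDirected (FTIndex F) (· ≤ ·) :=
  ⟨fun a b => ⟨⟨supSub a.1 b.1, ftOn_supSub a.2 b.2⟩,
    fun O _ hs => mem_supSub_left _ _ O hs, fun O _ hs => mem_supSub_right _ _ O hs⟩⟩

/-- The abelian sheaves underlying the submodules of finite type. -/
noncomputable def ftDiagram (F : X.Modules) :
    FTIndex F ⥤ Sheaf (Opens.grothendieckTopology X) AddCommGrpCat.{u} where
  obj N := (toAbFunctor X).obj N.1.toModules
  map {a b} h := (toAbFunctor X).map (incl (leOfHom h))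
  map_id a := (toAbFunctor X).map_id _
  map_comp {a b c} h h' := by
    rw [← Functor.map_comp]
    rfl

/-- The map to the module. -/
noncomputable def ftCocone (F : X.Modules) : Cocone (ftDiagram F) where
  pt := (toAbFunctor X).obj F
  ι :=
    { app := fun N => (toAbFunctor X).map N.1.ι
      naturality := fun a b h =>
        ((toAbFunctor X).map_comp (incl (leOfHom h)) b.1.ι).symm.trans (Category.comp_id _).symm }

/-- A quasi-coherent module on a quasi-compact quasi-separated scheme is the colimit of its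
submodules of finite type, as abelian sheaves. -/
theorem isIso_desc [CompactSpace X] [QuasiSeparatedSpace X] (hF : Coh.IsQCoh F) :
    IsIso (colimit.desc (ftDiagram F) (ftCocone F)) := by
  haveI : ∀ N, Mono ((ftCocone F).ι.app N) := fun N => Functor.map_mono (toAbFunctor X) N.1.ι
  haveI : Mono (colimit.desc (ftDiagram F) (ftCocone F)) := by
    haveI : Mono (ftCocone F).ι := NatTrans.mono_of_mono_app _
    haveI : Mono (colim.map (ftCocone F).ι) := inferInstance
    have e : colimit.desc (ftDiagram F) (ftCocone F) = colim.map (ftCocone F).ι ≫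
        colimit.desc _ (constCocone _ (ftCocone F).pt) := colimit.hom_ext fun j => by simp
    haveI : CategoryTheory.IsConnected (FTIndex F) := IsFiltered.isConnected _
    haveI : IsIso (colimit.desc ((Functor.const (FTIndex F)).obj (ftCocone F).pt) (constCocone _ (ftCocone F).pt)) :=
      (IsColimit.coconePointUniqueUpToIso (colimit.isColimit _)
        (isColimitConstCocone _ (ftCocone F).pt)).isIso_hom
    rw [e]
    infer_instance
  haveI : Epi (colimit.desc (ftDiagram F) (ftCocone F)) := by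
    refine ⟨fun {Z} g h e => ?_⟩
    apply CategoryTheory.Sheaf.hom_ext
    ext O s
    refine TopCat.Sheaf.eq_of_locally_eq' (C := AddCommGrpCat.{u}) Z
      (fun W : {W : X.affineOpens // W.1 ≤ O.unop} => W.1.1) O.unop (fun W => homOfLE W.2) ?_ _ _ fun W => ?_
    · intro x hx
      obtain ⟨W, hW, hxW, hWO⟩ := exists_isAffineOpen_mem_and_subset (X := X) (x := x) hx
      exact Opens.mem_iSup.2 ⟨⟨⟨W, hW⟩, hWO⟩, hxW⟩
    · obtain ⟨N, hN, hmem⟩ := exists_ftOn_contains hF W.1.2 (extStep_qcqs W.1.2.isCompact)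
        {rs F W.2 s} (Set.finite_singleton _)
      obtain ⟨t, ht⟩ := N.exists_app_eq (hmem rfl)
      have hgh : ∀ (W' : X.Opens) (t : Γ(N.toModules, W')),
          g.hom.app (op W') (N.ι.app W' t) = h.hom.app (op W') (N.ι.app W' t) := fun W' t => by
        have := colimit.ι_desc (ftCocone F) ⟨N, hN⟩
        exact congrArg (fun q : (ftDiagram F).obj ⟨N, hN⟩ ⟶ Z => q.hom.app (op W') t)
          ((by rw [← this, Category.assoc, Category.assoc, e]) :
            (ftCocone F).ι.app ⟨N, hN⟩ ≫ g = (ftCocone F).ι.app ⟨N, hN⟩ ≫ h)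
      rw [← NatTrans.naturality_apply, ← NatTrans.naturality_apply]
      have := hgh W.1.1 t
      rw [ht] at this
      exact this
  exact isIso_of_mono_of_epi _

/-- Vanishing for the submodules of finite type gives vanishing. -/
theorem subsingleton_HH_of_ftSub [CompactSpace X] [QuasiSeparatedSpace X] (hF : Coh.IsQCoh F) (n : ℕ)
    (h : ∀ N : SubMod F, FTOn N ⊤ → Subsingleton (Coh.HH X N.toModules n)) :
    Subsingleton (Coh.HH X F n) := by
  haveI := isIso_desc hF
  haveI : CompactSpace (TopCat.of X) := inferInstanceAs (CompactSpace X)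
  refine subsingleton_of_forall_eq 0 fun x => ?_
  obtain ⟨N, y, hy⟩ := exists_stage (T := TopCat.of X) (ftDiagram F) n
    (x.comp (Ext.mk₀ (inv (colimit.desc (ftDiagram F) (ftCocone F)))) (add_zero n))
  have hx : x = (x.comp (Ext.mk₀ (inv (colimit.desc (ftDiagram F) (ftCocone F)))) (add_zero n)).comp
      (Ext.mk₀ (colimit.desc (ftDiagram F) (ftCocone F))) (add_zero n) := by
    rw [Ext.comp_assoc_of_second_deg_zero, Ext.mk₀_comp_mk₀, IsIso.inv_hom_id, Ext.comp_mk₀_id]
  have hy0 : y = 0 := (h N.1 N.2).elim y 0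
  rw [hx, ← hy, hy0, Ext.zero_comp, Ext.zero_comp]

end Groth.Agent.QcqsColim
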