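import Groth.Agent.ToposFinLib.Algebraic2
import Groth.Agent.ToposFinLib.Eps
import Mathlib.Topology.Spectral.Basic
import Mathlib.CategoryTheory.Sites.Spaces
import Mathlib.Topology.Category.TopCat.Opens

/-!
# The topos of a quasi-compact quasi-separated space is coherent
-/

set_option autoImplicit false
set_option backward.isDefEq.respectTransparency false

universe u

open CategoryTheory CategoryTheory.Limits Opposite TopologicalSpace ToposFin Groth.Agent.ToposFinLib

namespace Groth.Agent.QcqsColim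

variable (X : Type u) [TopologicalSpace X]

/-- The sheaves attached to the compact opens. -/
def compactEps : Set (Sh (Opens.grothendieckTopology X)) :=
  {K | ∃ U : Opens X, IsCompact (U : Set X) ∧ K = eps (Opens.grothendieckTopology X) U}

variable {X}

/-- An open covered by a finite family of arrows in a sieve. -/
theorem isQCSite_of_isCompact {U : Opens X} (hU : IsCompact (U : Set X)) :
    IsQCSite (Opens.grothendieckTopology X) U := by
  intro S hS
  choose W g hg hxW using hS
  obtain ⟨t, ht⟩ := hU.elim_finite_subcover (fun x : U => (W x.1 x.2 : Set X)) (fun x => (W x.1 x.2).isOpen)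
    fun x hx => Set.mem_iUnion.2 ⟨⟨x, hx⟩, hxW x hx⟩
  let e : Fin t.card ≃ t := t.equivFin.symm
  refine ⟨t.card, fun k => W (e k).1.1 (e k).1.2, fun k => g _ _, fun k => hg _ _, fun x hx => ?_⟩
  obtain ⟨b, hb, hxb⟩ := Set.mem_iUnion₂.1 (ht hx)
  exact ⟨W b.1 b.2, g b.1 b.2, (Sieve.mem_ofArrows_iff _ _ _).2 ⟨e.symm ⟨b, hb⟩, eqToHom (by simp), Subsingleton.elim _ _⟩,
    hxb⟩

theorem isGenerating_compactEps [PrespectralSpace X] : IsGenerating (compactEps X) := by
  intro F
  refine ⟨Σ U : {U : Opens X // IsCompact (U : Set X)}, F.obj.obj (op U.1), fun p => eps _ p.1.1,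
    fun p => epsDesc p.2, fun p => ⟨p.1.1, p.1.2, rfl⟩, cov_iff.1 fun V y x hx => ?_⟩
  obtain ⟨W, ⟨hW, hxW, hWV⟩⟩ : ∃ W : Opens X, IsCompact (W : Set X) ∧ x ∈ W ∧ W ≤ V := by
    obtain ⟨W, ⟨hWo, hWc⟩, hxW, hWV⟩ :=
      PrespectralSpace.isTopologicalBasis.exists_subset_of_mem_open hx V.isOpen
    exact ⟨⟨W, hWo⟩, hWc, hxW, hWV⟩
  exact ⟨W, homOfLE hWV, ⟨⟨⟨W, hW⟩, F.obj.map (homOfLE hWV).op y⟩, epsGen _ W, epsDesc_gen _⟩, hxW⟩

theorem epsHom_subsingleton {U : Opens X} (K : Sh (Opens.grothendieckTopology X))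
    (a b : K ⟶ eps (Opens.grothendieckTopology X) U) : a = b := by
  let L := presheafToSheaf (Opens.grothendieckTopology X) (Type u)
  let t : yoneda.obj U ⟶ ⊤_ ((Opens X)ᵒᵖ ⥤ Type u) := terminal.from _
  haveI : ∀ V, Mono (t.app V) := fun V => by
    rw [CategoryTheory.mono_iff_injective]
    exact fun p q _ => (Subsingleton.elim (α := V.unop ⟶ U) p q)
  haveI : Mono t := NatTrans.mono_of_mono_app t
  haveI : Mono (L.map t) := inferInstance
  exact (cancel_mono (L.map t)).1 ((IsTerminal.isTerminalObj L _ terminalIsTerminal).hom_ext _ _)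

/-- The intersection of two opens is their product. -/
theorem isPullback_inf (U V : Opens X) :
    IsPullback (homOfLE (inf_le_left : U ⊓ V ≤ U)) (homOfLE (inf_le_right : U ⊓ V ≤ V))
      (homOfLE (le_top : U ≤ ⊤)) (homOfLE (le_top : V ≤ ⊤)) :=
  IsPullback.of_isLimit' ⟨Subsingleton.elim _ _⟩ (PullbackCone.IsLimit.mk _
    (fun s => homOfLE (le_inf s.fst.le s.snd.le)) (fun _ => Subsingleton.elim _ _)
    (fun _ => Subsingleton.elim _ _) (fun _ _ _ _ => Subsingleton.elim _ _))

theorem closedUnderPullbacks_compactEps [QuasiSeparatedSpace X] :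
    ClosedUnderPullbacks (compactEps X) := by
  rintro K L M f g ⟨U, hU, rfl⟩ ⟨V, hV, rfl⟩ ⟨W, hW, rfl⟩
  have h := ((isPullback_inf U V).map yoneda).map (presheafToSheaf (Opens.grothendieckTopology X) (Type u))
  refine ⟨eps _ (U ⊓ V), epsMap (homOfLE inf_le_left), epsMap (homOfLE inf_le_right),
    ⟨U ⊓ V, QuasiSeparatedSpace.inter_isCompact _ _ U.isOpen hU V.isOpen hV, rfl⟩, ?_⟩
  exact IsPullback.of_isLimit' ⟨epsHom_subsingleton _ _ _⟩ (PullbackCone.IsLimit.mk _
    (fun s => h.lift s.fst s.snd (epsHom_subsingleton _ _ _)) (fun _ => h.lift_fst _ _ _)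
    (fun _ => h.lift_snd _ _ _) (fun _ _ _ _ => epsHom_subsingleton _ _ _))

theorem closedUnderEqualizers_compactEps : ClosedUnderEqualizers (compactEps X) := by
  rintro K L a b hK ⟨V, hV, rfl⟩
  exact ⟨K, 𝟙 K, by rw [epsHom_subsingleton _ a b], hK,
    ⟨Fork.IsLimit.mk' _ fun s => ⟨s.ι, by simp, fun {m} h => by simpa using h⟩⟩⟩

theorem isQC_of_mem_compactEps : ∀ K ∈ compactEps X, IsQC K := by
  rintro K ⟨U, hU, rfl⟩
  exact (isQC_eps_iff U).1 (isQCSite_of_isCompact hU)

/-- The sheaf of the whole space is final. -/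
noncomputable def isTerminalEpsTop : IsTerminal (eps (Opens.grothendieckTopology X) (⊤ : Opens X)) :=
  IsTerminal.isTerminalObj (presheafToSheaf (Opens.grothendieckTopology X) (Type u)) _
    (IsTerminal.isTerminalObj yoneda _ isTerminalTop)

theorem isCoherent_of_iso {K L : Sh (Opens.grothendieckTopology X)} (e : K ≅ L) (h : IsCoherent K) :
    IsCoherent L :=
  ⟨isQC_of_iso e h.1, fun A B a b hA hB =>
    isQC_of_iso (pullback.map (a ≫ e.inv) (b ≫ e.inv) a b (𝟙 _) (𝟙 _) e.hom (by simp) (by simp) |> asIso)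
      (h.2 A B (a ≫ e.inv) (b ≫ e.inv) hA hB)⟩

/-- The topos of a quasi-separated prespectral space is algebraic. -/
theorem isAlgebraic [PrespectralSpace X] [QuasiSeparatedSpace X] :
    IsAlgebraic (Opens.grothendieckTopology X) :=
  ⟨compactEps X, isQC_of_mem_compactEps, isGenerating_compactEps, closedUnderPullbacks_compactEps,
    closedUnderEqualizers_compactEps⟩

theorem isCoherent_eps_of_isCompact [PrespectralSpace X] [QuasiSeparatedSpace X] {U : Opens X}
    (hU : IsCompact (U : Set X)) : IsCoherent (eps (Opens.grothendieckTopology X) U) :=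
  isCoherent_of_mem isGenerating_compactEps isQC_of_mem_compactEps closedUnderPullbacks_compactEps ⟨U, hU, rfl⟩

end Groth.Agent.QcqsColim
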